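import Groth.Agent.BCLib.RpushSec
import Groth.Agent.BCLib.HHMap
import Groth.Agent.RpushLib.Sections
import Groth.Agent.DCohMore.ProjUnit
import Groth.Agent.ProperFin.PushHH
import Groth.Agent.SiteCmpLib.Stab
import Groth.Agent.DCohMore.RpushPerf
import Groth.Agent.DCohLib.TensorInj
import Groth.Agent.HTorCompute.Amp
import Groth.Agent.S3523
import Groth.Agent.S3528
import Groth.Agent.S3529

/-!
# Cohomology of quasi-coherent modules as homology of complexes of modules
-/

set_option autoImplicit false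
set_option backward.isDefEq.respectTransparency false
set_option linter.style.haveILetI false
set_option linter.unusedSectionVars false
set_option maxHeartbeats 1000000

universe u

open CategoryTheory Limits AlgebraicGeometry TopologicalSpace Opposite TensorProduct DirectSum
open Groth.Agent.DCohLib

attribute [local instance] HasDerivedCategory.standard

noncomputable section

namespace Groth.Agent.KunnethHHLib

/-- The structure morphism. -/
abbrev str (A : Type u) [CommRing A] (X : Scheme.{u}) [X.Over (Spec (CommRingCat.of A))] :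
    X ⟶ Spec (CommRingCat.of A) := X ↘ Spec (CommRingCat.of A)

variable {A : Type u} [CommRing A] {X : Scheme.{u}} [X.Over (Spec (CommRingCat.of A))]

theorem hasRΓA (f : X ⟶ Spec (CommRingCat.of A)) : HTor.HasRΓA f :=
  Groth.Agent.KInj.hasRightDerivedFunctor (Groth.Agent.DCohLib.hres_modules _) _

theorem isIso_unit_app (R : CommRingCat.{u}) (M : ModuleCat.{u} R) :
    IsIso ((tilde.adjunction (R := R)).unit.app M) := inferInstance

/-- Transport from the open subscheme on all of `X` back to `X`. -/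
theorem nonempty_HH_top (F : X.Modules) [Coh.IsQCoh F] (p : ℕ) :
    letI := Module.compHom (Coh.HH (str A X ⁻¹ᵁ ⊤).toScheme (F.restrict (str A X ⁻¹ᵁ ⊤).ι) p)
      ((RpushLib.preTop (str A X) ⊤).comp (Scheme.ΓSpecIso (CommRingCat.of A)).inv.hom)
    Nonempty (Coh.HH (str A X ⁻¹ᵁ ⊤).toScheme (F.restrict (str A X ⁻¹ᵁ ⊤).ι) p ≃ₗ[A] Coh.HH X F p) := by
  let U : X.Opens := str A X ⁻¹ᵁ ⊤
  haveI : IsIso U.ι := by
    exact inferInstanceAs (IsIso X.topIso.hom)
  let g : X ⟶ U.toScheme := inv U.ι
  let e0 : F.restrict U.ι ≅ (Scheme.Modules.pushforward g).obj F :=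
    (Scheme.Modules.restrictFunctor U.ι).mapIso
      (((Scheme.Modules.pushforwardId X).app F).symm ≪≫
        (Scheme.Modules.pushforwardCongr (IsIso.inv_hom_id U.ι).symm).app F ≪≫
        ((Scheme.Modules.pushforwardComp g U.ι).app F).symm) ≪≫
      (Scheme.Modules.restrictFunctorAdjCounitIso U.ι).app _
  have hacyc : ProperFin.AffAcyclic g F := fun V hV n => by
    haveI : IsAffineHom g := inferInstance
    exact CohBase.affine_vanishing F (hV.preimage g) n
  obtain ⟨e, he⟩ := ProperFin.exists_pushEquiv g hacyc p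
  letI := Module.compHom (Coh.HH (str A X ⁻¹ᵁ ⊤).toScheme (F.restrict (str A X ⁻¹ᵁ ⊤).ι) p)
      ((RpushLib.preTop (str A X) ⊤).comp (Scheme.ΓSpecIso (CommRingCat.of A)).inv.hom)
  let e1 := BCLib.hhEquivΓ e0 p
  refine ⟨LinearEquiv.symm
    { (e.trans e1.symm.toAddEquiv) with
      map_smul' := fun a x => ?_ }⟩
  have hg : ∀ b : Γ(X, U), g.appTop.hom (U.topIso.inv.hom b) = b := fun b => by
    have h0 : U.ι.appTop = U.topIso.inv := by
      rw [Scheme.Opens.ι_appTop]
      exact congrArg X.presheaf.map (Subsingleton.elim _ _)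
    have h : U.topIso.inv ≫ g.appTop = 𝟙 Γ(X, ⊤) := by
      rw [← h0, ← Scheme.Hom.comp_appTop, IsIso.inv_hom_id, Scheme.Hom.id_appTop]
    exact congrArg (fun (m : Γ(X, ⊤) ⟶ Γ(X, ⊤)) => m b) h
  let rr : Coh.Γtop U.toScheme := RpushLib.preTop (str A X) ⊤ ((Scheme.ΓSpecIso (CommRingCat.of A)).inv.hom a)
  have hkey : a • x = ProperFin.gTop g rr • x := by
    show Coh.toGlobal (str A X) a • x = _
    congr 1
    exact (hg _).symm
  show e1.symm (e (a • x)) = rr • e1.symm (e x)
  rw [hkey, he]
  exact map_smul e1.symm rr (e x)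

/-- Sections of higher direct images to the affine base are the cohomology groups. -/
theorem nonempty_sections_rpush [HasInjectiveResolutions X.Modules] [QuasiCompact (str A X)]
    [QuasiSeparated (str A X)] (F : X.Modules) [Coh.IsQCoh F] (p : ℕ) :
    Nonempty (((moduleSpecΓFunctor (R := CommRingCat.of A)).obj ((Coh.Rpush (str A X) p).obj F) : Type u) ≃ₗ[A]
      Coh.HH X F p) := by
  obtain ⟨e, he⟩ := RpushLib.exists_sections_equiv (str A X) (M := F) p (isAffineOpen_top (Spec (CommRingCat.of A)))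
  letI := Module.compHom (Coh.HH (str A X ⁻¹ᵁ ⊤).toScheme (F.restrict (str A X ⁻¹ᵁ ⊤).ι) p)
      ((RpushLib.preTop (str A X) ⊤).comp (Scheme.ΓSpecIso (CommRingCat.of A)).inv.hom)
  obtain ⟨e'⟩ := nonempty_HH_top (A := A) F p
  let e1 : ((moduleSpecΓFunctor (R := CommRingCat.of A)).obj ((Coh.Rpush (str A X) p).obj F) : Type u) ≃ₗ[A]
      Coh.HH (str A X ⁻¹ᵁ ⊤).toScheme (F.restrict (str A X ⁻¹ᵁ ⊤).ι) p :=
    { toFun := fun s => e s
      invFun := fun s => e.symm s
      left_inv := e.symm_apply_apply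
      right_inv := e.apply_symm_apply
      map_add' := map_add e
      map_smul' := fun a s => he ((Scheme.ΓSpecIso (CommRingCat.of A)).inv.hom a) s }
  exact ⟨e1 ≪≫ₗ e'⟩

theorem isQCohD_single (F : X.Modules) (hF : Coh.IsQCoh F) :
    DCoh.IsQCohD (DCoh.toD X ((CochainComplex.singleFunctor X.Modules 0).obj F)) :=
  DCohMore.isQCohD_sgl₀ F hF

/-- The homology of a complex computing the cohomology. -/
theorem exists_computes [QuasiCompact (str A X)] [QuasiSeparated (str A X)]
    [HTor.HasRΓA (str A X)] (F : X.Modules) [Coh.IsQCoh F] :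
    ∃ L : DRing.Cx A, (∀ i, Module.Free A (L.X i)) ∧ (∃ c, DRing.VanishesAbove L c) ∧
      HTor.Computes (str A X) L (DCoh.toD X ((CochainComplex.singleFunctor X.Modules 0).obj F)) ∧
      (∀ i : ℤ, i < 0 → IsZero (L.homology i)) ∧
      ∀ p : ℕ, Nonempty ((L.homology (p : ℤ) : Type u) ≃ₗ[A] Coh.HH X F p) := by
  haveI : CompactSpace X := QuasiCompact.compactSpace_of_compactSpace (str A X)
  haveI := HTorCompute.hasRpush' (str A X)
  haveI : HasInjectiveResolutions X.Modules := inferInstance
  let P := (CochainComplex.singleFunctor X.Modules 0).obj F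
  have hPq : ∀ i, Coh.IsQCoh (P.X i) := fun i => by
    rcases eq_or_ne i 0 with rfl | hn
    · exact (SheafOfModules.isQuasicoherent X.ringCatSheaf).prop_of_iso
        (HomologicalComplex.singleObjXSelf (ComplexShape.up ℤ) 0 F).symm inferInstance
    · exact (PullbackMod.isQCoh_and_isFP_of_isFinLocFree _
        (DCohLib.isFinLocFree_of_isZero (HomologicalComplex.isZero_single_obj_X _ _ _ _ hn))).1
  have hPz : ∀ i : ℤ, 0 < i → IsZero (P.X i) := fun i hi =>
    HomologicalComplex.isZero_single_obj_X _ _ _ _ (by omega)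
  haveI : P.IsStrictlyLE 0 := (CochainComplex.isStrictlyLE_iff P 0).2 hPz
  have hK := TildeD.isQCohD_of_terms P hPq
  obtain ⟨N, hN⟩ := DCohMore.exists_isLE_rpush_qcoh (str A X)
  haveI : ((HTor.RΓA (str A X)).obj (DCoh.toD X P)).IsLE (0 + (N : ℤ)) :=
    (DerivedCategory.isLE_iff _ _).2 fun i hi => HTorCompute.isZero_homology_rgammaA (str A X) _ hK i
      ((DerivedCategory.isLE_iff _ _).1 (hN (DCoh.toD X P) 0 hK inferInstance) i hi)
  obtain ⟨L, hfree, hvan, ⟨eL⟩⟩ := HTorCompute.exists_free_representative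
    (K := (HTor.RΓA (str A X)).obj (DCoh.toD X P)) (n := 0 + (N : ℤ))
  have hL : HTor.Computes (str A X) L (DCoh.toD X P) := ⟨eL⟩
  haveI : PreservesColimitsOfSize.{0, 0} (tilde.functor (CommRingCat.of A)) :=
    (tilde.adjunction (R := CommRingCat.of A)).leftAdjoint_preservesColimits
  haveI : PreservesFiniteColimits (tilde.functor (CommRingCat.of A)) :=
    PreservesColimitsOfSize.preservesFiniteColimits _
  haveI : (tilde.functor (CommRingCat.of A)).Additive := Groth.Agent.TildeKFlat.additive_til (CommRingCat.of A)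
  haveI : PreservesFiniteLimits (tilde.functor (CommRingCat.of A)) :=
    TildeD.preservesFiniteLimits_tilde (R := CommRingCat.of A)
  haveI : (tilde.functor (CommRingCat.of A)).Faithful :=
    (tilde.fullyFaithfulFunctor (R := CommRingCat.of A)).faithful
  obtain ⟨t⟩ := (HTorCompute.computes_iff (str A X) L _ (TildeD.isQCohD_of_terms P hPq)).1 hL
  let hom : ∀ i : ℤ, (tilde.functor (CommRingCat.of A)).obj (L.homology i) ≅
      (DerivedCategory.homologyFunctor (Spec (CommRingCat.of A)).Modules i).obj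
        ((DCoh.Rpush (str A X)).obj (DCoh.toD X P)) := fun i =>
    (tilde.functor (CommRingCat.of A)).mapIso
      ((DerivedCategory.homologyFunctorFactors (ModuleCat.{u} A) i).app L).symm ≪≫
    ((TildeD.nu (tilde.functor (CommRingCat.of A)) i).app (DRing.toD L)).symm ≪≫
    (DerivedCategory.homologyFunctor _ i).mapIso t
  let sP : DCoh.toD X P ≅ DCoh.inD X F := ((DerivedCategory.singleFunctorIsoCompQ X.Modules 0).app F).symm
  refine ⟨L, hfree, ⟨_, hvan⟩, hL, fun i hi => ?_, fun p => ?_⟩
  · have hz : IsZero ((tilde.functor (CommRingCat.of A)).obj (L.homology i)) :=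
      (DCohMore.TwistFam.isZero_HD_rpush_single (str A X) F inferInstance i (Or.inl hi)).of_iso
        (hom i ≪≫ (DerivedCategory.homologyFunctor _ i).mapIso ((DCoh.Rpush (str A X)).mapIso sP))
    rw [IsZero.iff_id_eq_zero]
    exact (tilde.functor (CommRingCat.of A)).map_injective (hz.eq_of_src _ _)
  · haveI : HasInjectiveResolutions (ModSite.Mod X.sheaf) := ‹HasInjectiveResolutions X.Modules›
    haveI : SiteCmp.HasRpushD (ModSite.RMor.ofScheme (str A X)) := ‹DCoh.HasRpush (str A X)›
    obtain ⟨r⟩ := SiteCmpLib.nonempty_homology_rpushD_single (ModSite.RMor.ofScheme (str A X)) F p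
    let c : (tilde.functor (CommRingCat.of A)).obj (L.homology (p : ℤ)) ≅ (Coh.Rpush (str A X) p).obj F :=
      hom p ≪≫ (DerivedCategory.homologyFunctor _ _).mapIso ((DCoh.Rpush (str A X)).mapIso sP) ≪≫ r
    obtain ⟨e⟩ := nonempty_sections_rpush (A := A) F p
    haveI : IsIso ((tilde.adjunction (R := CommRingCat.of A)).unit.app (L.homology (p : ℤ))) :=
      isIso_unit_app (CommRingCat.of A) _
    exact ⟨((asIso ((tilde.adjunction (R := CommRingCat.of A)).unit.app (L.homology (p : ℤ)))) ≪≫
      (moduleSpecΓFunctor (R := CommRingCat.of A)).mapIso c).toLinearEquiv ≪≫ₗ e⟩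

end Groth.Agent.KunnethHHLib

end
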