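import Groth.Agent.KunnethHHLib.Basic
import Groth.Agent.DCohMore.RelAmp
import Groth.Agent.RelPCLib.TildeTensor
import Groth.Agent.HTorCompute.Kunneth
import Groth.Agent.HTorCompute.Tilde

/-!
# The Künneth formula for cohomology of quasi-coherent modules
-/

set_option autoImplicit false
set_option backward.isDefEq.respectTransparency false
set_option linter.style.haveILetI false
set_option linter.unusedSectionVars false
set_option maxHeartbeats 1000000

universe u v w

open CategoryTheory Limits AlgebraicGeometry TopologicalSpace Opposite TensorProduct DirectSum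
open Groth.Agent.DCohLib

attribute [local instance] HasDerivedCategory.standard

noncomputable section

namespace Groth.Agent.KunnethHHLib

/-- A direct sum with only finitely many non-trivial summands, enumerated by `α`. -/
theorem nonempty_directSum_equiv_pi {A : Type u} [CommRing A] {ι : Type v} {κ : Type w} [Fintype κ]
    (α : κ → ι) (hα : Function.Injective α) (M : ι → Type u) [∀ i, AddCommGroup (M i)] [∀ i, Module A (M i)]
    (hz : ∀ i, (∀ k, α k ≠ i) → Subsingleton (M i)) :
    Nonempty ((⨁ i, M i) ≃ₗ[A] Π k, M (α k)) := by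
  classical
  refine ⟨LinearEquiv.ofBijective (LinearMap.pi fun k => DirectSum.component A ι M (α k)) ⟨fun x y h => ?_, fun y => ?_⟩⟩
  · refine DirectSum.ext_component A fun i => ?_
    by_cases hi : ∃ k, α k = i
    · obtain ⟨k, rfl⟩ := hi
      exact congrFun h k
    · haveI := hz i fun k hk => hi ⟨k, hk⟩
      exact Subsingleton.elim _ _
  · refine ⟨∑ k, DirectSum.lof A ι M (α k) (y k), funext fun k => ?_⟩
    simp only [LinearMap.pi_apply, map_sum]
    rw [Finset.sum_eq_single k (fun l _ hl => by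
      rw [DirectSum.component.of]
      exact dif_neg fun h => hl (hα h)) (fun h => absurd (Finset.mem_univ k) h)]
    exact DirectSum.component.lof_self A _ _

variable {Z : Scheme.{u}}

/-- The tensor product of modules in degree zero. -/
theorem nonempty_tensor_single (M N : Z.Modules) :
    Nonempty ((DCoh.tensorCx.obj ((CochainComplex.singleFunctor Z.Modules 0).obj M)).obj
        ((CochainComplex.singleFunctor Z.Modules 0).obj N) ≅
      (CochainComplex.singleFunctor Z.Modules 0).obj (CohB1.tensorMod M N)) := by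
  exact ⟨(totSingleIso ((CochainComplex.singleFunctor Z.Modules 0).obj M) N).symm ≪≫
    (HomologicalComplex.singleMapHomologicalComplex ((DCoh.tensorBi (X := Z)).flip.obj N)
      (ComplexShape.up ℤ) 0).app M⟩

/-- The external tensor product of modules in degree zero. -/
theorem nonempty_extTensor_single {X Y S : Scheme.{u}} (f : X ⟶ S) (g : Y ⟶ S) (F : X.Modules) (G : Y.Modules) :
    Nonempty (HTor.extTensorCx f g ((CochainComplex.singleFunctor X.Modules 0).obj F)
        ((CochainComplex.singleFunctor Y.Modules 0).obj G) ≅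
      (CochainComplex.singleFunctor _ 0).obj (CohB1.tensorMod ((Scheme.Modules.pullback (pullback.fst f g)).obj F)
        ((Scheme.Modules.pullback (pullback.snd f g)).obj G))) := by
  obtain ⟨e⟩ := nonempty_tensor_single ((Scheme.Modules.pullback (pullback.fst f g)).obj F)
    ((Scheme.Modules.pullback (pullback.snd f g)).obj G)
  let a := (HomologicalComplex.singleMapHomologicalComplex (Scheme.Modules.pullback (pullback.fst f g))
      (ComplexShape.up ℤ) 0).app F
  let b := (HomologicalComplex.singleMapHomologicalComplex (Scheme.Modules.pullback (pullback.snd f g))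
      (ComplexShape.up ℤ) 0).app G
  exact ⟨(DCoh.tensorCx.mapIso a).app _ ≪≫
    (DCoh.tensorCx.obj ((CochainComplex.singleFunctor _ 0).obj
      ((Scheme.Modules.pullback (pullback.fst f g)).obj F))).mapIso b ≪≫ e⟩

theorem isQCoh_single_X {X : Scheme.{u}} (F : X.Modules) [Coh.IsQCoh F] (i : ℤ) :
    Coh.IsQCoh (((CochainComplex.singleFunctor X.Modules 0).obj F).X i) := by
  rcases eq_or_ne i 0 with rfl | hn
  · exact (SheafOfModules.isQuasicoherent X.ringCatSheaf).prop_of_iso
      (HomologicalComplex.singleObjXSelf (ComplexShape.up ℤ) 0 F).symm inferInstance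
  · exact (PullbackMod.isQCoh_and_isFP_of_isFinLocFree _
      (DCohLib.isFinLocFree_of_isZero (HomologicalComplex.isZero_single_obj_X _ _ _ _ hn))).1

theorem isFlatOver_single_X {X S : Scheme.{u}} (f : X ⟶ S) (F : X.Modules) (h : FlatMod.IsFlatOver f F) (i : ℤ) :
    FlatMod.IsFlatOver f (((CochainComplex.singleFunctor X.Modules 0).obj F).X i) := by
  rcases eq_or_ne i 0 with rfl | hn
  · exact DCohMore.isFlatOver_of_iso f (HomologicalComplex.singleObjXSelf (ComplexShape.up ℤ) 0 F).symm h
  · exact DCohMore.isFlatOver_of_isZero f (HomologicalComplex.isZero_single_obj_X _ _ _ _ hn)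

variable {A : Type u} [CommRing A]

/-- The product over the affine base, as a scheme over the base. -/
@[reducible]
def prodOver (X Y : Scheme.{u}) [X.Over (Spec (CommRingCat.of A))] [Y.Over (Spec (CommRingCat.of A))] :
    (pullback (str A X) (str A Y)).Over (Spec (CommRingCat.of A)) :=
  ⟨pullback.fst (str A X) (str A Y) ≫ str A X⟩

/-- The Künneth formula. -/
theorem nonempty_kunneth (X Y : Scheme.{u}) [X.Over (Spec (CommRingCat.of A))] [Y.Over (Spec (CommRingCat.of A))]
    [QuasiCompact (str A X)] [QuasiSeparated (str A X)] [QuasiCompact (str A Y)] [QuasiSeparated (str A Y)]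
    (F : X.Modules) [Coh.IsQCoh F] (G : Y.Modules) [Coh.IsQCoh G]
    (hfl : FlatMod.IsFlatOver (str A X) F) (hH : ∀ p : ℕ, Module.Flat A (Coh.HH X F p)) (n : ℕ) :
    letI := prodOver (A := A) X Y
    Nonempty ((Π p : Fin (n + 1), Coh.HH X F (p : ℕ) ⊗[A] Coh.HH Y G (n - (p : ℕ))) ≃ₗ[A]
      Coh.HH (pullback (str A X) (str A Y))
        (CohB1.tensorMod ((Scheme.Modules.pullback (pullback.fst (str A X) (str A Y))).obj F)
          ((Scheme.Modules.pullback (pullback.snd (str A X) (str A Y))).obj G)) n) := by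
  letI := prodOver (A := A) X Y
  let h := pullback.fst (str A X) (str A Y) ≫ str A X
  haveI : QuasiCompact h := inferInstance
  haveI : QuasiSeparated h := inferInstance
  haveI : QuasiCompact (str A (pullback (str A X) (str A Y))) := ‹QuasiCompact h›
  haveI : QuasiSeparated (str A (pullback (str A X) (str A Y))) := ‹QuasiSeparated h›
  haveI := hasRΓA (str A X)
  haveI := hasRΓA (str A Y)
  haveI := hasRΓA h
  haveI : HTor.HasRΓA (str A (pullback (str A X) (str A Y))) := hasRΓA h
  haveI := HTorCompute.hasRpush' (str A X)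
  haveI := HTorCompute.hasRpush' (str A Y)
  haveI := HTorCompute.hasRpush' h
  let P₁ := (CochainComplex.singleFunctor X.Modules 0).obj F
  let P₂ := (CochainComplex.singleFunctor Y.Modules 0).obj G
  let M := CohB1.tensorMod ((Scheme.Modules.pullback (pullback.fst (str A X) (str A Y))).obj F)
    ((Scheme.Modules.pullback (pullback.snd (str A X) (str A Y))).obj G)
  obtain ⟨L₁, hf₁, ⟨c₁, hc₁⟩, e₁, hn₁, hp₁⟩ := exists_computes (A := A) F
  obtain ⟨L₂, hf₂, ⟨c₂, hc₂⟩, e₂, hn₂, hp₂⟩ := exists_computes (A := A) G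
  have hfl₁ : ∀ i, Module.Flat A (L₁.X i) := fun i => haveI := hf₁ i; inferInstance
  have hq₁ : ∀ i, Coh.IsQCoh (P₁.X i) := isQCoh_single_X F
  have hq₂ : ∀ i, Coh.IsQCoh (P₂.X i) := isQCoh_single_X G
  have hb₁ : ∀ i : ℤ, 0 < i → IsZero (P₁.X i) := fun i hi =>
    HomologicalComplex.isZero_single_obj_X _ _ _ _ (by omega)
  have hqT : ∀ i, Coh.IsQCoh ((HTor.extTensorCx (str A X) (str A Y) P₁ P₂).X i) := fun i =>
    HTorCompute.isQCoh_tensorCx_X _ _ (HTorCompute.isQCoh_pullCx_X _ _ hq₁)
      (HTorCompute.isQCoh_pullCx_X _ _ hq₂) i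
  -- the tensor product of the complexes computes the cohomology of the product
  have key : HTor.Computes h (HTor.tensorCx L₁ L₂)
      (DCoh.toD _ (HTor.extTensorCx (str A X) (str A Y) P₁ P₂)) := by
    let tA := TildeLpull.tilCx (CommRingCat.of A)
    obtain ⟨e₁'⟩ := (HTorCompute.computes_iff (str A X) L₁ _ (TildeD.isQCohD_of_terms P₁ hq₁)).1 e₁
    obtain ⟨e₂'⟩ := (HTorCompute.computes_iff (str A Y) L₂ _ (TildeD.isQCohD_of_terms P₂ hq₂)).1 e₂
    obtain ⟨t⟩ := RelPCLib.nonempty_tilCx_tensor (R := CommRingCat.of A) L₁ L₂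
    have hK : DCoh.IsKFlat (tA.obj L₁) := HTorCompute.isKFlat_tilCx_bdd L₁ c₁ hc₁ hfl₁
    obtain ⟨k⟩ := HTorCompute.nonempty_kunneth (str A X) (str A Y) P₁ P₂ hq₁ hq₂ 0 hb₁
      (isFlatOver_single_X _ F hfl) (tA.obj L₂)
      (((TildeLpull.tildeDFactors (CommRingCat.of A)).app L₂).symm ≪≫ e₂')
    refine (HTorCompute.computes_iff _ _ _ (TildeD.isQCohD_of_terms _ hqT)).2
      ⟨(TildeLpull.tildeDFactors (CommRingCat.of A)).app (HTor.tensorCx L₁ L₂) ≪≫
        DerivedCategory.Q.mapIso t ≪≫ (DCohLib.lTensorIso (tA.obj L₂) (tA.obj L₁) hK).symm ≪≫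
        (DCoh.LTensorCx (tA.obj L₂)).mapIso
          (((TildeLpull.tildeDFactors (CommRingCat.of A)).app L₁).symm ≪≫ e₁') ≪≫ k.symm⟩
  obtain ⟨eM⟩ := nonempty_extTensor_single (str A X) (str A Y) F G
  haveI : Coh.IsQCoh M :=
    (SheafOfModules.isQuasicoherent (pullback (str A X) (str A Y)).ringCatSheaf).prop_of_iso
      ((HomologicalComplex.eval (pullback (str A X) (str A Y)).Modules (ComplexShape.up ℤ) 0).mapIso eM ≪≫
        HomologicalComplex.singleObjXSelf (ComplexShape.up ℤ) 0 M) (hqT 0)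
  obtain ⟨L, -, -, eL, -, hp⟩ := exists_computes (A := A) M
  obtain ⟨e⟩ := key
  obtain ⟨eL⟩ := eL
  let u : DRing.toD (HTor.tensorCx L₁ L₂) ≅ DRing.toD L :=
    e ≪≫ (HTor.RΓA h).mapIso (DerivedCategory.Q.mapIso eM) ≪≫ eL.symm
  let uH : (HTor.tensorCx L₁ L₂).homology (n : ℤ) ≅ L.homology (n : ℤ) :=
    ((DerivedCategory.homologyFunctorFactors (ModuleCat.{u} A) n).app _).symm ≪≫
      (DerivedCategory.homologyFunctor _ _).mapIso u ≪≫
      (DerivedCategory.homologyFunctorFactors (ModuleCat.{u} A) n).app L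
  have hflH : ∀ i : ℤ, Module.Flat A (L₁.homology i) := fun i => by
    rcases lt_or_ge i 0 with hi | hi
    · haveI := ModuleCat.subsingleton_of_isZero (hn₁ i hi)
      infer_instance
    · obtain ⟨p, rfl⟩ := Int.eq_ofNat_of_zero_le hi
      obtain ⟨ep⟩ := hp₁ p
      haveI := hH p
      exact Module.Flat.of_linearEquiv ep
  obtain ⟨Φ, -, hΦ⟩ := S3523.result A L₁ L₂ hfl₁ ⟨c₁, hc₁⟩ ⟨c₂, hc₂⟩ hflH (n : ℤ)
  let α : Fin (n + 1) → HTor.Antidiag (n : ℤ) := fun p =>
    ⟨(((p : ℕ) : ℤ), ((n - (p : ℕ) : ℕ) : ℤ)), by have := p.isLt; simp only; omega⟩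
  obtain ⟨d⟩ := nonempty_directSum_equiv_pi (A := A) α (fun p q hpq => by
      have := congrArg (fun x : HTor.Antidiag (n : ℤ) => x.1.1) hpq
      simp only [α, Nat.cast_inj] at this
      exact Fin.ext this)
    (fun ij => TensorProduct A (L₁.homology ij.1.1) (L₂.homology ij.1.2)) fun ij hij => by
      rcases lt_or_ge ij.1.1 0 with hi | hi
      · haveI := ModuleCat.subsingleton_of_isZero (hn₁ _ hi)
        infer_instance
      · haveI := ModuleCat.subsingleton_of_isZero (hn₂ ij.1.2 (by
          by_contra hj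
          refine hij ⟨ij.1.1.toNat, by have := ij.2; omega⟩ (Subtype.ext (Prod.ext ?_ ?_))
          · show ((ij.1.1.toNat : ℕ) : ℤ) = _
            omega
          · show ((n - ij.1.1.toNat : ℕ) : ℤ) = _
            have := ij.2
            omega))
        infer_instance
  obtain ⟨eP⟩ := hp n
  exact ⟨(LinearEquiv.piCongrRight fun p : Fin (n + 1) =>
      TensorProduct.congr (hp₁ (p : ℕ)).some.symm (hp₂ (n - (p : ℕ))).some.symm) ≪≫ₗ d.symm ≪≫ₗ
    LinearEquiv.ofBijective Φ hΦ ≪≫ₗ uH.toLinearEquiv ≪≫ₗ eP⟩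

end Groth.Agent.KunnethHHLib

end
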