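import Groth.Agent.KunnethHHLib.Main
import Groth.Agent.FlatStratLib.Criterion
import Groth.Agent.PBundleLib.Twists
import Groth.Agent.AVLib.Cube
import Groth.Agent.CurveLib.Inv
import Groth.Agent.CurveLib.SmulPow
import Groth.Agent.ParaFLib.Stalk

/-!
# Translation invariant invertible modules: sections and the shear automorphism
-/

set_option autoImplicit false
set_option backward.isDefEq.respectTransparency false
set_option linter.style.haveILetI false
set_option maxHeartbeats 1000000

universe u

open CategoryTheory CategoryTheory.Limits MonoidalCategory CartesianMonoidalCategory MonObj AlgebraicGeometry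
open Groth.Agent.PullbackMod Groth.Agent.AmpleLib Groth.Agent.PicLib
open scoped TensorProduct

noncomputable section

namespace Groth.Agent.KunnethHHLib

/-- Invertible modules are quasi-coherent. -/
theorem isQCoh_of_invertible {X : Scheme.{u}} {L : X.Modules} (hL : PicF.IsInvertible L) : Coh.IsQCoh L :=
  (PullbackMod.isQCoh_and_isFP_of_isFinLocFree _ (CurveLib.isFinLocFree_of_isInvertible hL)).1

/-- Tensoring with an invertible module preserves non-zero maps. -/
theorem tensor_map_ne_zero {Y : Scheme.{u}} {N : Y.Modules} (hN : PicF.IsInvertible N) {A B : Y.Modules}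
    {g : A ⟶ B} (hg : g ≠ 0) : ((DCoh.tensorBi (X := Y)).obj N).map g ≠ 0 := fun h => hg <| by
  refine (eq_zero_iff_stalk g).2 fun x => LinearMap.ext fun z => ?_
  obtain ⟨e, he⟩ := ParaFLib.exists_stalk_gen hN x
  have h1 := (DCohLib.stalkTensor_natural_right x g (M := N) (e ⊗ₜ z)).symm
  rw [(eq_zero_iff_stalk _).1 h x, LinearMap.zero_apply] at h1
  have h2 : e ⊗ₜ[Y.presheaf.stalk x] stalkLin g x z = 0 := by
    simpa using (DCohLib.stalkTensor x N B).map_eq_zero_iff.1 h1
  let θ : Y.presheaf.stalk x ≃ₗ[Y.presheaf.stalk x] N.presheaf.stalk x :=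
    LinearEquiv.ofBijective (LinearMap.toSpanSingleton _ _ e) he
  have h3 := congrArg ((TensorProduct.congr θ.symm (LinearEquiv.refl _ _)).trans (TensorProduct.lid _ _)) h2
  simp only [LinearEquiv.trans_apply, TensorProduct.congr_tmul, LinearEquiv.refl_apply, TensorProduct.lid_tmul,
    map_zero] at h3
  rw [show θ.symm e = 1 from θ.symm_apply_eq.2 (by rw [LinearEquiv.ofBijective_apply, LinearMap.toSpanSingleton_apply, one_smul]), one_smul] at h3
  exact h3

/-- Tensoring a map on the left with a module. -/
def tL {Y : Scheme.{u}} (L : Y.Modules) {A B : Y.Modules} (g : A ⟶ B) :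
    CohB1.tensorMod L A ⟶ CohB1.tensorMod L B := ((DCoh.tensorBi (X := Y)).obj L).map g

theorem tL_ne_zero {Y : Scheme.{u}} {L : Y.Modules} (hL : PicF.IsInvertible L) {A B : Y.Modules} {g : A ⟶ B}
    (hg : g ≠ 0) : tL L g ≠ 0 := tensor_map_ne_zero hL hg

/-- A section, together with a section of an inverse, gives triviality. -/
theorem trivial_of_section_inverse {Y : Scheme.{u}} [IsIntegral Y] (hfield : IsField Γ(Y, ⊤)) {L M : Y.Modules}
    (hL : PicF.IsInvertible L) (a : CohB1.tensorMod L M ≅ Coh.structureModule Y)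
    (s : Coh.structureModule Y ⟶ L) (hs : s ≠ 0) (s' : Coh.structureModule Y ⟶ M) (hs' : s' ≠ 0) :
    Nonempty (L ≅ Coh.structureModule Y) := by
  let t : L ⟶ Coh.structureModule Y := (unitR L).inv ≫ tL L s' ≫ a.hom
  have ht : t ≠ 0 := fun h => tL_ne_zero hL hs' <| by
    rw [← cancel_epi (unitR L).inv, ← cancel_mono a.hom]
    simp only [comp_zero, zero_comp, Category.assoc]
    exact h
  haveI := ParaFLib.isIso_of_section_cosection hfield hL s hs t ht
  exact ⟨(asIso s).symm⟩

/-- A tensor product of non-zero vector spaces is non-zero. -/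
theorem subsingleton_right {k : Type u} [Field k] {U V : Type u} [AddCommGroup U] [Module k U] [AddCommGroup V]
    [Module k V] [Nontrivial U] (h : Subsingleton (U ⊗[k] V)) : Subsingleton V := by
  obtain ⟨u, hu⟩ := exists_ne (0 : U)
  obtain ⟨f, hf⟩ : ∃ f : U →ₗ[k] k, f u ≠ 0 := by
    by_contra! hall
    exact hu ((Module.forall_dual_apply_eq_zero_iff k u).1 hall)
  refine subsingleton_of_forall_eq 0 fun v => ?_
  have h0 := congrArg (TensorProduct.lid k V ∘ TensorProduct.map f LinearMap.id) (Subsingleton.elim (u ⊗ₜ[k] v) 0)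
  simp only [Function.comp_apply, TensorProduct.map_tmul, LinearMap.id_apply, TensorProduct.lid_tmul, map_zero] at h0
  exact (smul_eq_zero.1 h0).resolve_left hf

variable {k : Type u} [Field k] {X : Over (Spec (CommRingCat.of k))} [GrpObj X]

/-- The shear map is an isomorphism. -/
theorem isIso_shear : IsIso (lift (fst X X) μ[X]).left := by
  let ψ : X ⊗ X ⟶ X ⊗ X := lift (fst X X) ((fst X X)⁻¹ * snd X X)
  have hμ : μ[X] = fst X X * snd X X := by
    rw [Hom.mul_def, lift_fst_snd, Category.id_comp]
  have h1 : lift (fst X X) μ[X] ≫ ψ = 𝟙 _ := CartesianMonoidalCategory.hom_ext _ _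
    (by simp only [ψ, Category.assoc, lift_fst, Category.id_comp])
    (by simp only [ψ, Category.assoc, lift_snd, Category.id_comp, MonObj.comp_mul, GrpObj.comp_inv, lift_fst,
        lift_snd, hμ, inv_mul_cancel_left])
  have h2 : ψ ≫ lift (fst X X) μ[X] = 𝟙 _ := CartesianMonoidalCategory.hom_ext _ _
    (by simp only [ψ, Category.assoc, lift_fst, Category.id_comp])
    (by simp only [ψ, Category.assoc, lift_snd, Category.id_comp, MonObj.comp_mul, lift_fst, lift_snd, hμ,
        mul_inv_cancel_left])
  haveI : IsIso (lift (fst X X) μ[X]) := ⟨ψ, h1, h2⟩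
  exact inferInstanceAs (IsIso ((Over.forget _).map (lift (fst X X) μ[X])))

variable [IsProper X.hom] [GeometricallyIntegral X.hom]

/-- A translation invariant invertible module with a non-zero section is trivial. -/
theorem trivial_of_section (hfield : IsField Γ(X.left, ⊤)) {L : X.left.Modules} (hL : PicF.IsInvertible L)
    (hΛ : Nonempty ((Scheme.Modules.pullback μ[X].left).obj L ≅
      CohB1.tensorMod ((Scheme.Modules.pullback (fst X X).left).obj L) ((Scheme.Modules.pullback (snd X X).left).obj L)))
    (s : Coh.structureModule X.left ⟶ L) (hs : s ≠ 0) : Nonempty (L ≅ Coh.structureModule X.left) := by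
  haveI : IsIntegral X.left := GeometricallyIntegral.isIntegral_of_subsingleton X.hom
  let τ : X ⟶ X := (𝟙 X)⁻¹
  have hττ : τ ≫ τ = 𝟙 X := by simp [τ, GrpObj.comp_inv]
  have hmul : pull μ[X].left (cls hL) = pull (fst X X).left (cls hL) * pull (snd X X).left (cls hL) :=
    (cls_eq_cls _ _).2 hΛ
  have h1 := congrArg (pull (lift (𝟙 X) τ).left) hmul
  rw [map_mul, AVLib.pull_left_comp, AVLib.pull_left_comp, AVLib.pull_left_comp, lift_fst, lift_snd,
    ← Hom.mul_def, show 𝟙 X * τ = 1 from mul_inv_cancel _, AVLib.pull_one, Over.id_left, pull_id] at h1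
  obtain ⟨a⟩ : Nonempty (CohB1.tensorMod L ((Scheme.Modules.pullback τ.left).obj L) ≅ Coh.structureModule X.left) :=
    (cls_eq_one (isInvertible_tensor hL (isInvertible_pullback τ.left hL))).1 h1.symm
  let G := Scheme.Modules.pullback τ.left
  let s' : Coh.structureModule X.left ⟶ G.obj L := (pullO τ.left).inv ≫ G.map s
  have hs' : s' ≠ 0 := fun h => hs <| by
    have h0 : G.map s = 0 := (cancel_epi (pullO τ.left).inv).1 (h.trans comp_zero.symm)
    let e : G ⋙ G ≅ 𝟭 _ := Scheme.Modules.pullbackComp τ.left τ.left ≪≫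
      Scheme.Modules.pullbackCongr (by rw [← Over.comp_left, hττ]; rfl) ≪≫ Scheme.Modules.pullbackId X.left
    have h2 : (G ⋙ G).map s = 0 := by
      rw [Functor.comp_map, h0, Functor.map_zero]
    have h3 := e.hom.naturality s
    rw [h2, zero_comp] at h3
    exact (cancel_epi (e.hom.app (Coh.structureModule X.left))).1 (h3.symm.trans comp_zero.symm)
  exact trivial_of_section_inverse hfield hL a s hs s' hs'

end Groth.Agent.KunnethHHLib
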